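import Groth.Agent.HodgePnLib.Seq

/-!
# Exterior powers of a quotient of a bundle by a line bundle

`0 → N ⊗ ∧^p Q → ∧^(p+1) E → ∧^(p+1) Q → 0`.
-/

set_option autoImplicit false
set_option backward.isDefEq.respectTransparency false
set_option backward.isDefEq.respectTransparency.types false
set_option maxHeartbeats 800000

universe u

open CategoryTheory CategoryTheory.Limits AlgebraicGeometry TopologicalSpace Opposite
open WedgeLib (ExtData)

noncomputable section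

namespace HdgLefLib

variable {X : Scheme.{u}} {S : ShortComplex X.Modules} (hS : S.ShortExact)
  (h₁ : FlatMod.IsFinLocFreeOfRank 1 S.X₁) (h₃ : FlatMod.IsFinLocFree S.X₃)

include hS h₁ h₃

/-- The exterior powers of an extension by a line bundle. -/
theorem exists_seq_sub (h₂ : FlatMod.IsFinLocFree S.X₂) (p : ℕ) {B C₁ C : X.Modules}
    (hB : ExtPow.IsExtPow (p + 1) S.X₂ B) (hC₁ : ExtPow.IsExtPow (p + 1) S.X₃ C₁) (hC : ExtPow.IsExtPow p S.X₃ C) :
    ∃ T : ShortComplex X.Modules, T.ShortExact ∧ Nonempty (T.X₁ ≅ CohB1.tensorMod S.X₁ C) ∧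
      Nonempty (T.X₂ ≅ B) ∧ Nonempty (T.X₃ ≅ C₁) := by
  have hlf₁ : FlatMod.IsFinLocFree S.X₁ := CurveVBLib.isFinLocFree_of_rank h₁
  let N := p + 1
  choose L' hq' hL' using fun i : ℕ => ExtPowLib.exists_isExtPow_vb hlf₁ i
  choose L hq hL using fun i : ℕ => ExtPowLib.exists_isExtPow_vb h₂ i
  choose L'' hq'' hL'' using fun i : ℕ => ExtPowLib.exists_isExtPow_vb h₃ i
  let D' := fun i => (HodgePnLib.exists_extData (hL' i)).some
  let D := fun i => (HodgePnLib.exists_extData (hL i)).some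
  let D'' := fun i => (HodgePnLib.exists_extData (hL'' i)).some
  have hzero : ∀ (d i : ℕ), i + d = N + 1 → 2 ≤ i → ∀ σ : WedgeLib.Step (L' := L') (L'' := L'') N D i,
      IsZero σ.F := by
    intro d
    induction d with
    | zero =>
      intro i hi _ ρ
      refine HodgePnLib.isZero_of_sections fun W s => WedgeLib.ext_on (WedgeLib.Good S L' L'' N)
        (WedgeLib.exists_good N h₃ hq' hq'') s 0 fun V hV hVW => ?_
      haveI := ρ.mono
      refine (?_ : _ = (0 : Γ(ρ.F, V.1))).trans (map_zero (ρ.F.presheaf.map (homOfLE hVW).op).hom).symm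
      refine QCohLib.app_injective_of_mono ρ.ι V.1 (Eq.trans ?_ (map_zero (ρ.ι.app V.1).hom).symm)
      have h := (ρ.range_eq V hV _).1 ⟨AmpleLib.res ρ.F hVW s, rfl⟩
      rw [WedgeLib.fil, dif_neg (by omega), Submodule.mem_bot] at h
      exact ((D N).φ V).map_eq_zero_iff.1 h
    | succ d ih =>
      intro i hi h2 σ
      obtain ⟨τ, a, g, w, hse, -⟩ := WedgeLib.exists_next N D' D D'' hS hlf₁ h₃ hq' hq'' (by omega : i ≤ N) σ
      have hz : IsZero (ShortComplex.mk a g w).X₃ := IsZero.of_iso ((CurvLib.tensorLeft' (L'' (N - i))).map_isZero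
        (HodgePnLib.isZero_ext_of_lt h₁ (D' i) (by omega))) (HilbPolyLib.swapIso _ _)
      haveI : Epi (ShortComplex.mk a g w).f := hse.exact.epi_f (hz.eq_of_tgt _ _)
      exact IsZero.of_epi (ShortComplex.mk a g w).f (ih (i + 1) (by omega) (by omega) τ)
  obtain ⟨σ, hσ⟩ := WedgeLib.exists_step_zero (L' := L') (L'' := L'') N D hS hlf₁
  obtain ⟨τ, a, g, w, hse, -⟩ := WedgeLib.exists_next N D' D D'' hS hlf₁ h₃ hq' hq'' (Nat.zero_le N) σ
  obtain ⟨ρ, a', g', w', hse', -⟩ := WedgeLib.exists_next N D' D D'' hS hlf₁ h₃ hq' hq'' (by omega : 1 ≤ N) τ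
  haveI := hse'.epi_g
  haveI : Mono (ShortComplex.mk a' g' w').g :=
    hse'.exact.mono_g ((hzero p (1 + 1) (by omega) (by omega) ρ).eq_of_src _ _)
  haveI : IsIso (ShortComplex.mk a' g' w').g := isIso_of_mono_of_epi _
  obtain ⟨e₀⟩ := ExtPowLib.nonempty_iso (hL' 0) (HodgePnLib.isExtPow_zero S.X₁)
  obtain ⟨e₁⟩ := ExtPowLib.nonempty_iso (hL' 1) (LMLib.isExtPow_one S.X₁)
  obtain ⟨eB⟩ := ExtPowLib.nonempty_iso (hL N) hB
  obtain ⟨eC₁⟩ := ExtPowLib.nonempty_iso (hL'' N) hC₁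
  obtain ⟨eC⟩ := ExtPowLib.nonempty_iso (hL'' p) hC
  exact ⟨ShortComplex.mk a g w, hse,
    ⟨asIso (ShortComplex.mk a' g' w').g ≪≫ HilbPolyLib.congrLeft e₁ _ ≪≫
      HilbPolyLib.congrRight S.X₁ (eqToIso (congrArg L'' (Nat.add_sub_cancel p 1)) ≪≫ eC)⟩,
    ⟨eqToIso hσ ≪≫ eB⟩,
    ⟨HilbPolyLib.congrLeft e₀ _ ≪≫ HilbPolyLib.unitLeft _ ≪≫ eqToIso (congrArg L'' (Nat.sub_zero N)) ≪≫ eC₁⟩⟩

end HdgLefLib
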