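import Groth.Agent.HdgLefLib.Datum
import Groth.Agent.HdgLefLib.Wedge
import Groth.Agent.HyperDRLib.Smooth
import Groth.Agent.ProjFormLib.Proj
import Groth.Agent.ExtPowLib.Pullback
import Groth.Agent.CohCmpLib.HomLift
import Groth.Agent.CycK0Lib.Ev
import Groth.Agent.VBHypLib.Seq
import Groth.Agent.AmpleFinGenLib.Divisor

/-!
# The conormal sequence and the restriction sequence of a smooth divisor
-/

set_option autoImplicit false
set_option linter.style.haveILetI false
set_option linter.unusedSectionVars false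
set_option maxHeartbeats 1000000
set_option backward.isDefEq.respectTransparency false
set_option backward.isDefEq.respectTransparency.types false

universe u

open CategoryTheory CategoryTheory.Limits AlgebraicGeometry TopologicalSpace Opposite
open DevissLib (gm St)
open OmegaSh (pullSect)

noncomputable section

namespace HdgLefLib

theorem vb_omega {k : Type u} [Field k] {X : Scheme.{u}} (f : X ⟶ Spec (CommRingCat.of k)) [QuasiSeparated f]
    [Smooth f] {n : ℕ} (hn : topologicalKrullDim X ≤ (n : WithBot ℕ∞)) : FlatMod.IsFinLocFree (Omega.sheaf f) := fun x =>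
  let ⟨V, r, hx, _, e⟩ := HyperDRLib.exists_free_omega f n hn x
  ⟨V, r, hx, e⟩

/-- **The conormal sequence of a smooth closed subscheme.** -/
theorem exists_conormal_seq {S X Y : Scheme.{u}} (f : X ⟶ S) [QuasiSeparated f] [Smooth f] (i : Y ⟶ X)
    [IsClosedImmersion i] [Smooth (i ≫ f)] [QuasiSeparated (i ≫ f)] (hX : FlatMod.IsFinLocFree (Omega.sheaf f)) :
    ∃ T : ShortComplex Y.Modules, T.ShortExact ∧ Nonempty (T.X₁ ≅ Omega.conormal i) ∧
      Nonempty (T.X₂ ≅ (Scheme.Modules.pullback i).obj (Omega.sheaf f)) ∧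
      Nonempty (T.X₃ ≅ Omega.sheaf (i ≫ f)) := by
  have hd : OmegaSh.IsUniversal (OmegaSh.dOmega f) := OmegaAffLib.isUniversal_dOmega
  have hd' : OmegaSh.IsUniversal (OmegaSh.dOmega (i ≫ f)) := OmegaAffLib.isUniversal_dOmega
  obtain ⟨φ, hφ⟩ := ConormalSecLib.exists_conormalDiff i (OmegaSh.dOmega f)
  obtain ⟨ψ, hψ, -⟩ := OmegaAffLib.existsUnique_diffCompat (f' := i ≫ f) (h := i) (b := 𝟙 S)
    (Category.comp_id _) (OmegaSh.dOmega f) hd (OmegaSh.dOmega (i ≫ f))
  obtain ⟨hepi, heq⟩ := Groth.Agent.S5976.result f i _ _ hd _ _ hd' φ hφ ψ hψ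
  have hw : φ ≫ ψ = 0 := by
    have h := (imageSubobject_arrow_comp φ).symm
    have : (imageSubobject φ).arrow ≫ ψ = 0 := by
      rw [← Subobject.ofLE_arrow (X := imageSubobject φ) (Y := kernelSubobject ψ) heq.le, Category.assoc,
        kernelSubobject_arrow_comp, comp_zero]
    rw [h, Category.assoc, this, comp_zero]
  have hex : (ShortComplex.mk φ ψ hw).Exact := (ShortComplex.exact_iff_image_eq_kernel _).2 heq
  haveI : Coh.IsQCoh (Omega.sheaf f) := FinLFAnn.isQCoh_of_isFinLocFree hX
  haveI : Coh.IsQCoh (Omega.conormal i) := FLI.isQCoh_conormal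
  haveI : Mono φ := CycK0Lib.mono_of_stalks φ fun y => by
    obtain ⟨U, rs, hy, -, -, -, hc⟩ := AdjFormLib.exists_chart_smooth f i y
    obtain ⟨n, m, σ, D, hyD⟩ := exists_datum' hd hX hφ y hy hc
    let PB := (Scheme.Modules.pullback i).obj (Omega.sheaf f)
    let v : Fin n → (St y).obj PB := fun j => gm PB y hyD (pullSect i (Omega.sheaf f) D.U.1 (D.b j))
    have hv : Function.Bijective fun r : Fin n → Y.presheaf.stalk y => ∑ j, r j • v j := D.pull_frame y hyD
    refine (injective_iff_map_eq_zero _).2 fun a ha => ?_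
    obtain ⟨r, rfl⟩ := (D.he y hyD).2 a
    let r' : Fin n → Y.presheaf.stalk y := fun b => Sum.elim r (fun _ => 0) (σ.symm b)
    have hsum : ∑ j, r' j • v j = 0 := by
      rw [← σ.sum_comp, Fintype.sum_sum_type]
      simp only [r', Equiv.symm_apply_apply, Sum.elim_inl, Sum.elim_inr, zero_smul, Finset.sum_const_zero, add_zero]
      refine Eq.trans ?_ ha
      rw [map_sum]
      refine Finset.sum_congr rfl fun j _ => ?_
      rw [map_smul]
      refine congrArg (r j • ·) ?_
      show gm PB y hyD (pullSect i (Omega.sheaf f) D.U.1 (D.b (σ (Sum.inl j)))) = _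
      rw [← D.hφ j]
      exact (DevissLib.gm_app φ y hyD (D.e j)).symm
    have hr : r' = 0 := hv.1 (hsum.trans (by simp))
    have hr0 : r = 0 := funext fun j => by
      simpa [r'] using congrFun hr (σ (Sum.inl j))
    simp [hr0]
  exact ⟨ShortComplex.mk φ ψ hw, { exact := hex, mono_f := inferInstance, epi_g := hepi },
    ⟨Iso.refl _⟩, ⟨Iso.refl _⟩, ⟨Iso.refl _⟩⟩

/-- The restriction sequence of a bundle to a divisor. -/
theorem exists_restrict_seq {X : Scheme.{u}} (I : X.IdealSheafData) {F : X.Modules} (hF : FlatMod.IsFinLocFree F) :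
    ∃ T : ShortComplex X.Modules, T.ShortExact ∧ Nonempty (T.X₁ ≅ CohB1.tensorMod F (ClSub.idealMod I)) ∧
      Nonempty (T.X₂ ≅ F) ∧
      Nonempty (T.X₃ ≅ (Coh.push I.subschemeι).obj ((Scheme.Modules.pullback I.subschemeι).obj F)) := by
  let r := I.subschemeι
  obtain ⟨eq⟩ := VBHyp.quotMod_iso r I I.ker_subschemeι
  haveI := ProjFormLib.isIso_projApp r hF (Coh.structureModule I.subscheme)
  let pr := asIso (ProjFormLib.projApp r F (Coh.structureModule I.subscheme))
  exact ⟨(CurvLib.idealSeq I).map (ProjFormLib.tF F),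
    ProjFormLib.shortExact_tens hF (CurvLib.idealSeq_shortExact _),
    ⟨Iso.refl _⟩,
    ⟨HilbPolyLib.swapIso _ _ ≪≫ HilbPolyLib.unitLeft F⟩,
    ⟨HilbPolyLib.congrRight F eq ≪≫ pr ≪≫ (Scheme.Modules.pushforward r).mapIso
      (HilbPolyLib.swapIso _ _ ≪≫ HilbPolyLib.unitLeft _)⟩⟩

end HdgLefLib
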