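import Groth.Agent.HdgLefLib.Geom
import Groth.Agent.HodgePnLib.Dims
import Groth.Agent.PushLinLib.HH
import Groth.Agent.DecShLib.Bounded
import Groth.Agent.ProjClosedImmLib.Main
import Groth.Agent.AmpleThLib.Pow

/-!
# Cohomology of the forms on a smooth divisor
-/

set_option autoImplicit false
set_option linter.style.haveILetI false
set_option linter.unusedSectionVars false
set_option maxHeartbeats 1000000
set_option backward.isDefEq.respectTransparency false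
set_option backward.isDefEq.respectTransparency.types false

universe u

open CategoryTheory CategoryTheory.Limits AlgebraicGeometry TopologicalSpace Opposite
open CohB1 (tensorMod tensorPow)
open scoped ZeroObject

noncomputable section

namespace HdgLefLib

section Seq

variable {X : Scheme.{u}} {T : ShortComplex X.Modules}

theorem sub₂ (hT : T.ShortExact) {q : ℕ} (h₁ : Subsingleton (Coh.HH X T.X₁ q)) (h₃ : Subsingleton (Coh.HH X T.X₃ q)) :
    Subsingleton (Coh.HH X T.X₂ q) :=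
  subsingleton_of_forall_eq 0 fun y => by
    obtain ⟨x, rfl⟩ := AtlasCoh.hExact₂ (QCohLib.toAbF_shortExact hT) q y (h₃.elim _ _)
    rw [show x = 0 from h₁.elim x 0]
    exact map_zero (Sheaf.H.map ((T.map (QCohLib.toAbF X)).f) q)

/-- Vanishing is invariant under isomorphisms. -/
theorem sub_iso {M N : X.Modules} (e : M ≅ N) (q : ℕ) (h : Subsingleton (Coh.HH X M q)) : Subsingleton (Coh.HH X N q) :=
  SerreVanLib.subsingleton_HH_of_iso e.symm q h

variable {k : Type u} [Field k] [X.Over (Spec (CommRingCat.of k))]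

theorem injective_g (hT : T.ShortExact) {q : ℕ} (h₁ : Subsingleton (Coh.HH X T.X₁ q)) :
    Function.Injective (CurvLib.hMap (k := k) T.g q) :=
  (injective_iff_map_eq_zero _).2 fun y hy => by
    obtain ⟨x, rfl⟩ := AtlasCoh.hExact₂ (QCohLib.toAbF_shortExact hT) q y hy
    rw [show x = 0 from h₁.elim x 0]
    exact map_zero (Sheaf.H.map ((T.map (QCohLib.toAbF X)).f) q)

theorem surjective_g (hT : T.ShortExact) {q : ℕ} (h₁ : Subsingleton (Coh.HH X T.X₁ (q + 1))) :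
    Function.Surjective (CurvLib.hMap (k := k) T.g q) := fun y => by
  obtain ⟨x, hx⟩ := AtlasCoh.hExact₃ (QCohLib.toAbF_shortExact hT) q y (h₁.elim _ _)
  exact ⟨x, hx⟩

theorem finrank_le_g (hT : T.ShortExact) {q : ℕ} (h₁ : Subsingleton (Coh.HH X T.X₁ q))
    [Module.Finite k (Coh.HH X T.X₃ q)] :
    Module.finrank k (Coh.HH X T.X₂ q) ≤ Module.finrank k (Coh.HH X T.X₃ q) :=
  LinearMap.finrank_le_finrank_of_injective (injective_g hT h₁)

theorem finrank_eq_g (hT : T.ShortExact) {q : ℕ} (h₁ : Subsingleton (Coh.HH X T.X₁ q))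
    (h₁' : Subsingleton (Coh.HH X T.X₁ (q + 1))) :
    Module.finrank k (Coh.HH X T.X₂ q) = Module.finrank k (Coh.HH X T.X₃ q) :=
  (LinearEquiv.ofBijective _ ⟨injective_g (k := k) hT h₁, surjective_g (k := k) hT h₁'⟩).finrank_eq

end Seq

theorem finLocFree_tensor {X : Scheme.{u}} [IsLocallyNoetherian X] {F G : X.Modules} (hF : FlatMod.IsFinLocFree F) (hG : PicF.IsInvertible G) :
    FlatMod.IsFinLocFree (tensorMod F G) :=
  VBResLib.vb_tensor _ hF (AmpleDevLib.isFinLocFree_of_isInvertible hG)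

variable {k : Type u} [Field k] {X : Scheme.{u}} [X.Over (Spec (CommRingCat.of k))]
  [IsProper (X ↘ Spec (CommRingCat.of k))] [Smooth (X ↘ Spec (CommRingCat.of k))] {n : ℕ}
  (hn : topologicalKrullDim X ≤ (n : WithBot ℕ∞)) {I : X.IdealSheafData} (hI : PicF.IsInvertible (ClSub.idealMod I))
  [Smooth (I.subschemeι ≫ (X ↘ Spec (CommRingCat.of k)))]

local notation "f₀" => (X ↘ Spec (CommRingCat.of k))
local notation "i₀" => Scheme.IdealSheafData.subschemeι I
local notation "ΩX" => Omega.sheaf (X ↘ Spec (CommRingCat.of k))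
local notation "ΩY" => Omega.sheaf (Scheme.IdealSheafData.subschemeι I ≫ (X ↘ Spec (CommRingCat.of k)))

theorem sub_push (G : I.subscheme.Modules) [Coh.IsQCoh G] (q : ℕ) :
    Subsingleton (Coh.HH X ((Coh.push i₀).obj G) q) ↔ Subsingleton (Coh.HH I.subscheme G q) := by
  obtain ⟨e⟩ := QCohLib.nonempty_HH_push i₀ G q
  exact e.symm.toEquiv.subsingleton_congr

theorem shortExact_push {T : ShortComplex I.subscheme.Modules} (hT : T.ShortExact) :
    (T.map (Coh.push i₀)).ShortExact := by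
  haveI : PreservesLimitsOfSize.{0, 0} (Scheme.Modules.pushforward i₀) :=
    (Scheme.Modules.pullbackPushforwardAdjunction i₀).rightAdjoint_preservesLimits
  haveI : PreservesFiniteLimits (Scheme.Modules.pushforward i₀) := PreservesLimitsOfSize.preservesFiniteLimits _
  haveI : PreservesFiniteColimits (Scheme.Modules.pushforward i₀) := PreservesColimitsOfSize.preservesFiniteColimits _
  exact hT.map_of_exact (Scheme.Modules.pushforward i₀)

/-- Vanishing on the divisor from vanishing on the ambient scheme. -/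
theorem sub_restrict {F : X.Modules} (hF : FlatMod.IsFinLocFree F) {q : ℕ} (h₂ : Subsingleton (Coh.HH X F q))
    (h₁ : Subsingleton (Coh.HH X (tensorMod F (ClSub.idealMod I)) (q + 1))) :
    Subsingleton (Coh.HH I.subscheme ((Scheme.Modules.pullback i₀).obj F) q) := by
  obtain ⟨T, hT, ⟨e₁⟩, ⟨e₂⟩, ⟨e₃⟩⟩ := exists_restrict_seq I hF
  haveI : Coh.IsQCoh ((Scheme.Modules.pullback i₀).obj F) := FinLFAnn.isQCoh_of_isFinLocFree (CohCmpLib.isFinLocFree_pb _ hF)
  exact (sub_push ((Scheme.Modules.pullback i₀).obj F) q).1 (sub_iso e₃ q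
    (HodgePnLib.sub₃ hT (sub_iso e₂.symm q h₂)
      (sub_iso e₁.symm (q + 1) h₁)))

include hn in
theorem vbX : FlatMod.IsFinLocFree ΩX := vb_omega _ hn

include hn in
theorem vbY : FlatMod.IsFinLocFree ΩY :=
  vb_omega _ ((I.subschemeι.isClosedEmbedding.isInducing.topologicalKrullDim_le).trans hn)

include hn in
theorem isZero_big (c : ℕ) (hc : n < c) {E : X.Modules} (hE : ExtPow.IsExtPow c ΩX E) : IsZero E :=
  HyperDRLib.isZero_ext_of_local hE fun x =>
    let ⟨V, r, hx, hr, e⟩ := HyperDRLib.exists_free_omega f₀ n hn x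
    ⟨V, r, hx, by omega, e⟩

include hn hI in
/-- The sequences of forms on the divisor, twisted. -/
theorem exists_twisted_seq (b : ℕ) {E : X.Modules} (hE : ExtPow.IsExtPow (b + 1) ΩX E)
    {G G₁ : I.subscheme.Modules} (hG : ExtPow.IsExtPow b ΩY G) (hG₁ : ExtPow.IsExtPow (b + 1) ΩY G₁)
    {Z : X.Modules} (hZ : PicF.IsInvertible Z) :
    ∃ T : ShortComplex I.subscheme.Modules, T.ShortExact ∧
      Nonempty (T.X₁ ≅ tensorMod G ((Scheme.Modules.pullback i₀).obj (tensorMod (ClSub.idealMod I) Z))) ∧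
      Nonempty (T.X₂ ≅ (Scheme.Modules.pullback i₀).obj (tensorMod E Z)) ∧ Nonempty (T.X₃ ≅ tensorMod G₁ ((Scheme.Modules.pullback i₀).obj Z)) := by
  obtain ⟨S, hS, ⟨s₁⟩, ⟨s₂⟩, ⟨s₃⟩⟩ := exists_conormal_seq f₀ i₀ (vbX (k := k) hn)
  have hc : S.X₁ ≅ (Scheme.Modules.pullback i₀).obj (ClSub.idealMod I) :=
    s₁ ≪≫ eqToIso (show (Scheme.Modules.pullback i₀).obj (ClSub.idealMod (Scheme.IdealSheafData.subschemeι I).ker) = _ by rw [I.ker_subschemeι])
  have h₁ : FlatMod.IsFinLocFreeOfRank 1 S.X₁ :=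
    CurvLib.locFree_of_isInvertible (HilbPolyLib.isInvertible_of_iso hc.symm (AmpleDevLib.isInvertible_pb i₀ hI))
  have h₂ : FlatMod.IsFinLocFree S.X₂ := Groth.Agent.PerfLib.isFinLocFree_of_iso s₂.symm (CohCmpLib.isFinLocFree_pb _ (vbX (k := k) hn))
  have h₃ : FlatMod.IsFinLocFree S.X₃ := Groth.Agent.PerfLib.isFinLocFree_of_iso s₃.symm (vbY (k := k) (I := I) hn)
  haveI : Coh.IsQCoh ΩX := FinLFAnn.isQCoh_of_isFinLocFree (vbX (k := k) hn)
  obtain ⟨T, hT, ⟨t₁⟩, ⟨t₂⟩, ⟨t₃⟩⟩ := exists_seq_sub hS h₁ h₃ h₂ b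
    (ExtPowLib.isExtPow_of_iso_left s₂.symm (ExtPowLib.isExtPow_pullback i₀ hE))
    (ExtPowLib.isExtPow_of_iso_left s₃.symm hG₁) (ExtPowLib.isExtPow_of_iso_left s₃.symm hG)
  have hz : FlatMod.IsFinLocFree ((Scheme.Modules.pullback i₀).obj Z) :=
    AmpleDevLib.isFinLocFree_of_isInvertible (AmpleDevLib.isInvertible_pb i₀ hZ)
  exact ⟨T.map (ProjFormLib.tF ((Scheme.Modules.pullback i₀).obj Z)), ProjFormLib.shortExact_tens hz hT,
    ⟨HilbPolyLib.swapIso _ _ ≪≫ HilbPolyLib.congrLeft (t₁ ≪≫ HilbPolyLib.congrLeft hc _ ≪≫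
        HilbPolyLib.swapIso _ _) _ ≪≫ HilbPolyLib.assocIso _ _ _ ≪≫
        HilbPolyLib.congrRight G (PicPnLib.pullTens i₀ _ _).symm⟩,
    ⟨HilbPolyLib.swapIso _ _ ≪≫ HilbPolyLib.congrLeft t₂ _ ≪≫ (PicPnLib.pullTens i₀ _ _).symm⟩,
    ⟨HilbPolyLib.swapIso _ _ ≪≫ HilbPolyLib.congrLeft t₃ _⟩⟩

include hn hI in
/-- **The upper range.** -/
theorem upper {L : X.Modules} (hL : PicF.IsInvertible L)
    (eL : tensorMod (ClSub.idealMod I) L ≅ Coh.structureModule X)
    (hS : ∀ (c j a : ℕ) (E : X.Modules), 1 ≤ a → ExtPow.IsExtPow c ΩX E →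
      Subsingleton (Coh.HH X (tensorMod E (tensorPow L (j + 1))) a))
    (d : ℕ) : ∀ (b a j : ℕ) (G : I.subscheme.Modules), n ≤ a + b → n ≤ b + d → ExtPow.IsExtPow b ΩY G →
      Subsingleton (Coh.HH I.subscheme (tensorMod G ((Scheme.Modules.pullback i₀).obj (tensorPow L (j + 1)))) a) := by
  haveI : IsLocallyNoetherian X := (CurvLib.isNoetherian k (X := X)).toIsLocallyNoetherian
  haveI : IsLocallyNoetherian I.subscheme := LocallyOfFiniteType.isLocallyNoetherian i₀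
  haveI : Coh.IsQCoh ΩX := FinLFAnn.isQCoh_of_isFinLocFree (vbX (k := k) hn)
  have hP : ∀ j, PicF.IsInvertible (tensorPow L j) := fun j => AmpleThLib.tensorPow_isInvertible hL j
  have eP : ∀ j, Nonempty (tensorMod (ClSub.idealMod I) (tensorPow L (j + 1)) ≅ tensorPow L j) := fun j =>
    ⟨HilbPolyLib.congrRight (ClSub.idealMod I) (HilbPolyLib.swapIso (tensorPow L j) L) ≪≫
      (HilbPolyLib.assocIso _ _ _).symm ≪≫ HilbPolyLib.congrLeft eL _ ≪≫ HilbPolyLib.unitLeft _⟩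
  induction d with
  | zero =>
    intro b a j G _ hb hG
    obtain ⟨G₁, -, hG₁⟩ := ExtPowLib.exists_isExtPow_vb (vbY (k := k) (I := I) hn) (b + 1)
    obtain ⟨E, -, hE⟩ := ExtPowLib.exists_isExtPow_vb (vbX (k := k) hn) (b + 1)
    obtain ⟨T, hT, ⟨t₁⟩, ⟨t₂⟩, -⟩ := exists_twisted_seq (k := k) hn hI b hE hG hG₁ (hP (j + 2))
    have hz : IsZero T.X₂ := IsZero.of_iso ((Scheme.Modules.pullback i₀).map_isZero
      (IsZero.of_iso ((CurvLib.tensorLeft' (tensorPow L (j + 2))).map_isZero (isZero_big (k := k) hn (b + 1) (by omega) hE))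
        (HilbPolyLib.swapIso _ _))) t₂
    haveI := hT.mono_f
    have hz₁ : IsZero T.X₁ := IsZero.of_mono T.f hz
    obtain ⟨e⟩ := eP (j + 1)
    exact HodgePnLib.subsingleton_of_isZero (hz₁.of_iso (HilbPolyLib.congrRight G
      ((Scheme.Modules.pullback i₀).mapIso e.symm) ≪≫ t₁.symm)) a
  | succ d ih =>
    intro b a j G hab hb hG
    by_cases hbn : n ≤ b + d
    · exact ih b a j G hab hbn hG
    obtain ⟨a, rfl⟩ : ∃ a', a = a' + 1 := ⟨a - 1, by omega⟩
    obtain ⟨G₁, -, hG₁⟩ := ExtPowLib.exists_isExtPow_vb (vbY (k := k) (I := I) hn) (b + 1)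
    obtain ⟨E, hEv, hE⟩ := ExtPowLib.exists_isExtPow_vb (vbX (k := k) hn) (b + 1)
    obtain ⟨T, hT, ⟨t₁⟩, ⟨t₂⟩, ⟨t₃⟩⟩ := exists_twisted_seq (k := k) hn hI b hE hG hG₁ (hP (j + 2))
    obtain ⟨e⟩ := eP (j + 1)
    refine sub_iso (t₁ ≪≫ HilbPolyLib.congrRight G
      ((Scheme.Modules.pullback i₀).mapIso e)) (a + 1) (HodgePnLib.sub₁_succ hT ?_ ?_)
    · exact sub_iso t₃.symm a (ih (b + 1) a (j + 1) G₁ (by omega) (by omega) hG₁)
    · refine sub_iso t₂.symm (a + 1) (sub_restrict (finLocFree_tensor hEv (hP _))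
        (hS (b + 1) (j + 1) (a + 1) E (by omega) hE) ?_)
      exact sub_iso (HilbPolyLib.congrRight E
        (e.symm ≪≫ HilbPolyLib.swapIso _ _) ≪≫ (HilbPolyLib.assocIso _ _ _).symm) (a + 1 + 1)
        (hS (b + 1) j (a + 1 + 1) E (by omega) hE)

section Lower

variable {N : ℕ} (hV : ∀ (p q j : ℕ) (E : X.Modules), p + q < N → ExtPow.IsExtPow p (Omega.sheaf (X ↘ Spec (CommRingCat.of k))) E →
  Subsingleton (Coh.HH X (tensorMod E (tensorPow (ClSub.idealMod I) (j + 1))) q))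

include hn hI hV in
theorem lower : ∀ (p q j : ℕ) (G : I.subscheme.Modules), p + q + 1 < N → ExtPow.IsExtPow p ΩY G →
    Subsingleton (Coh.HH I.subscheme (tensorMod G ((Scheme.Modules.pullback i₀).obj (tensorPow (ClSub.idealMod I) (j + 1)))) q) := by
  haveI : IsLocallyNoetherian X := (CurvLib.isNoetherian k (X := X)).toIsLocallyNoetherian
  haveI : IsLocallyNoetherian I.subscheme := LocallyOfFiniteType.isLocallyNoetherian i₀
  haveI : Coh.IsQCoh ΩX := FinLFAnn.isQCoh_of_isFinLocFree (vbX (k := k) hn)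
  have hP : ∀ j, PicF.IsInvertible (tensorPow (ClSub.idealMod I) j) := fun j => AmpleThLib.tensorPow_isInvertible hI j
  have hres : ∀ (p q j : ℕ) (E : X.Modules), p + q + 1 < N → ExtPow.IsExtPow p ΩX E → FlatMod.IsFinLocFree E →
      Subsingleton (Coh.HH I.subscheme ((Scheme.Modules.pullback i₀).obj (tensorMod E (tensorPow (ClSub.idealMod I) (j + 1)))) q) :=
    fun p q j E h hE hEv => sub_restrict (finLocFree_tensor hEv (hP _)) (hV p q j E (by omega) hE)
      (sub_iso (HilbPolyLib.assocIso _ _ _).symm (q + 1) (hV p (q + 1) (j + 1) E (by omega) hE))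
  intro p
  induction p with
  | zero =>
    intro q j G h hG
    obtain ⟨E, hEv, hE⟩ := ExtPowLib.exists_isExtPow_vb (vbX (k := k) hn) 0
    obtain ⟨e⟩ := ExtPowLib.nonempty_iso hG (HodgePnLib.isExtPow_zero _)
    obtain ⟨e'⟩ := ExtPowLib.nonempty_iso hE (HodgePnLib.isExtPow_zero _)
    exact sub_iso ((Scheme.Modules.pullback i₀).mapIso (HilbPolyLib.congrLeft e' _ ≪≫
      HilbPolyLib.unitLeft _) ≪≫ (HilbPolyLib.unitLeft _).symm ≪≫ HilbPolyLib.congrLeft e.symm _) q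
      (hres 0 q j E h hE hEv)
  | succ p ih =>
    intro q j G h hG
    obtain ⟨G₀, -, hG₀⟩ := ExtPowLib.exists_isExtPow_vb (vbY (k := k) (I := I) hn) p
    obtain ⟨E, hEv, hE⟩ := ExtPowLib.exists_isExtPow_vb (vbX (k := k) hn) (p + 1)
    obtain ⟨T, hT, ⟨t₁⟩, ⟨t₂⟩, ⟨t₃⟩⟩ := exists_twisted_seq (k := k) hn hI p hE hG₀ hG (hP (j + 1))
    refine sub_iso t₃ q (HodgePnLib.sub₃ hT
      (sub_iso t₂.symm q (hres (p + 1) q j E h hE hEv)) ?_)
    exact sub_iso (HilbPolyLib.congrRight G₀ ((Scheme.Modules.pullback i₀).mapIso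
      (HilbPolyLib.swapIso _ _)) ≪≫ t₁.symm) (q + 1) (ih (q + 1) (j + 1) G₀ (by omega) hG₀)

include hn hI hV in
/-- **The Lefschetz comparison of dimensions.** -/
theorem compare (p q : ℕ) (E : X.Modules) (G : I.subscheme.Modules) (hE : ExtPow.IsExtPow p ΩX E)
    (hG : ExtPow.IsExtPow p ΩY G) (h : p + q < N) :
    letI := Module.compHom (Coh.HH I.subscheme G q) (Coh.toGlobal (i₀ ≫ f₀))
    (p + q + 1 < N → Module.finrank k (Coh.HH X E q) = Module.finrank k (Coh.HH X ((Coh.push i₀).obj G) q) ∧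
      Module.finrank k (Coh.HH X E q) = Module.finrank k (Coh.HH I.subscheme G q)) ∧
    Module.finrank k (Coh.HH X E q) ≤ Module.finrank k (Coh.HH X ((Coh.push i₀).obj G) q) := by
  letI := Module.compHom (Coh.HH I.subscheme G q) (Coh.toGlobal (i₀ ≫ f₀))
  haveI : IsLocallyNoetherian X := (CurvLib.isNoetherian k (X := X)).toIsLocallyNoetherian
  haveI : IsLocallyNoetherian I.subscheme := LocallyOfFiniteType.isLocallyNoetherian i₀
  haveI : Coh.IsQCoh ΩX := FinLFAnn.isQCoh_of_isFinLocFree (vbX (k := k) hn)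
  have hEv : FlatMod.IsFinLocFree E := ExtPowLib.isFinLocFree (vbX (k := k) hn) hE
  have hGv : FlatMod.IsFinLocFree G := ExtPowLib.isFinLocFree (vbY (k := k) (I := I) hn) hG
  haveI : Coh.IsQCoh G := FinLFAnn.isQCoh_of_isFinLocFree hGv
  obtain ⟨one⟩ : Nonempty (tensorPow (ClSub.idealMod I) (0 + 1) ≅ ClSub.idealMod I) := ⟨HilbPolyLib.unitLeft _⟩
  obtain ⟨R, hR, ⟨r₁⟩, ⟨r₂⟩, ⟨r₃⟩⟩ := exists_restrict_seq I hEv
  have hR₁ : ∀ m, p + m < N → Subsingleton (Coh.HH X R.X₁ m) := fun m hm =>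
    sub_iso (HilbPolyLib.congrRight E one ≪≫ r₁.symm) m (hV p m 0 E hm hE)
  -- the second step, pushed forward to `X`
  obtain ⟨W, hW, ⟨w₂⟩, ⟨w₃⟩, hW₁⟩ : ∃ W : ShortComplex X.Modules, W.ShortExact ∧
      Nonempty (W.X₂ ≅ (Coh.push i₀).obj ((Scheme.Modules.pullback i₀).obj E)) ∧ Nonempty (W.X₃ ≅ (Coh.push i₀).obj G) ∧
      ∀ m, p + m < N → Subsingleton (Coh.HH X W.X₁ m) := by
    cases p with
    | zero =>
      obtain ⟨e⟩ := ExtPowLib.nonempty_iso hG (HodgePnLib.isExtPow_zero _)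
      obtain ⟨e'⟩ := ExtPowLib.nonempty_iso hE (HodgePnLib.isExtPow_zero _)
      let w := (Coh.push i₀).mapIso ((Scheme.Modules.pullback i₀).mapIso e' ≪≫ KFlatLib.pullUnitIso i₀ ≪≫ e.symm)
      refine ⟨ShortComplex.mk (0 : (0 : X.Modules) ⟶ (Coh.push i₀).obj ((Scheme.Modules.pullback i₀).obj E)) w.hom zero_comp, ?_, ⟨Iso.refl _⟩,
        ⟨Iso.refl _⟩, fun m _ => HodgePnLib.subsingleton_of_isZero (isZero_zero _) m⟩
      exact (ShortComplex.Splitting.ofIsZeroOfIsIso _ (isZero_zero _) (w.isIso_hom)).shortExact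
    | succ p =>
      obtain ⟨G₀, hG₀v, hG₀⟩ := ExtPowLib.exists_isExtPow_vb (vbY (k := k) (I := I) hn) p
      have hO : PicF.IsInvertible (Coh.structureModule X) := CurvLib.isInvertible_structureModule
      obtain ⟨T, hT, ⟨t₁⟩, ⟨t₂⟩, ⟨t₃⟩⟩ := exists_twisted_seq (k := k) hn hI p hE hG₀ hG hO
      have hq₁ : FlatMod.IsFinLocFree (tensorMod G₀ ((Scheme.Modules.pullback i₀).obj (ClSub.idealMod I))) :=
        finLocFree_tensor hG₀v (AmpleDevLib.isInvertible_pb i₀ hI)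
      let u₁ : T.X₁ ≅ tensorMod G₀ ((Scheme.Modules.pullback i₀).obj (ClSub.idealMod I)) :=
        t₁ ≪≫ HilbPolyLib.congrRight G₀ ((Scheme.Modules.pullback i₀).mapIso (HilbPolyLib.swapIso _ _ ≪≫ HilbPolyLib.unitLeft _))
      let u₂ : T.X₂ ≅ (Scheme.Modules.pullback i₀).obj E := t₂ ≪≫ (Scheme.Modules.pullback i₀).mapIso (HilbPolyLib.swapIso _ _ ≪≫ HilbPolyLib.unitLeft _)
      let u₃ : T.X₃ ≅ G := t₃ ≪≫ HilbPolyLib.congrRight G (KFlatLib.pullUnitIso i₀) ≪≫ HilbPolyLib.swapIso _ _ ≪≫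
        HilbPolyLib.unitLeft _
      haveI : Coh.IsQCoh (tensorMod G₀ ((Scheme.Modules.pullback i₀).obj (ClSub.idealMod I))) := FinLFAnn.isQCoh_of_isFinLocFree hq₁
      haveI : Coh.IsQCoh T.X₁ := QCohLib.isQCoh_of_iso u₁.symm
      refine ⟨T.map (Coh.push i₀), shortExact_push hT,
        ⟨(Coh.push i₀).mapIso u₂⟩, ⟨(Coh.push i₀).mapIso u₃⟩, fun m hm => ?_⟩
      refine (sub_push T.X₁ m).2 ?_
      exact sub_iso (HilbPolyLib.congrRight G₀
        ((Scheme.Modules.pullback i₀).mapIso one) ≪≫ u₁.symm) m (lower (k := k) hn hI hV p m 0 G₀ (by omega) hG₀)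
  have hEY : FlatMod.IsFinLocFree ((Scheme.Modules.pullback i₀).obj E) := CohCmpLib.isFinLocFree_pb _ hEv
  have hfin : ∀ M : I.subscheme.Modules, FlatMod.IsFinLocFree M → ∀ (M' : X.Modules), (M' ≅ (Coh.push i₀).obj M) →
      Module.Finite k (Coh.HH X M' q) := fun M hM M' e => by
    haveI := CurvLib.finite_HH (k := k) (QCohLib.isCoh_push_finite i₀ M (Groth.Agent.PerfLib.isCoh_of_isFinLocFree hM)) q
    exact Module.Finite.equiv (CurvLib.hIso (k := k) e q).symm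
  haveI := hfin ((Scheme.Modules.pullback i₀).obj E) hEY R.X₃ r₃
  haveI := hfin G hGv W.X₃ w₃
  have e₂ : Module.finrank k (Coh.HH X R.X₃ q) = Module.finrank k (Coh.HH X W.X₂ q) :=
    (CurvLib.hIso (k := k) (r₃ ≪≫ w₂.symm) q).finrank_eq
  refine ⟨fun h1 => ?_, ?_⟩
  · have e1 : Module.finrank k (Coh.HH X E q) = Module.finrank k (Coh.HH X ((Coh.push i₀).obj G) q) := by
      rw [← (CurvLib.hIso (k := k) r₂ q).finrank_eq, finrank_eq_g hR (hR₁ q h) (hR₁ (q + 1) (by omega)), e₂,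
        finrank_eq_g hW (hW₁ q (by omega)) (hW₁ (q + 1) (by omega)), (CurvLib.hIso (k := k) w₃ q).finrank_eq]
    obtain ⟨e⟩ := PushLinLib.nonempty_HH_push_linear (A := k) (p := i₀ ≫ f₀) (q := f₀) i₀ G rfl q
    exact ⟨e1, e1.trans e.finrank_eq.symm⟩
  · rw [← (CurvLib.hIso (k := k) r₂ q).finrank_eq, ← (CurvLib.hIso (k := k) w₃ q).finrank_eq]
    exact (finrank_le_g hR (hR₁ q h)).trans (e₂.trans_le (finrank_le_g hW (hW₁ q (by omega))))

end Lower

end HdgLefLib
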