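import Groth.Agent.HdgLefLib.Main
import Groth.Agent.AmpleFinGenLib.Divisor
import Groth.Agent.IntMultLib.Cartier
import Groth.Agent.PnDualLib.Embed
import Groth.Agent.PnDualLib.ProjAlg
import Groth.Agent.EtaEtLib.Fibres
import Groth.Agent.CMFlatLib.Open
import Groth.Agent.S10934
import Groth.Agent.S0051
import Groth.Agent.S1535
import Groth.Agent.StratLib.Light
import Groth.Agent.IntMultLib.Positive

/-!
# Vanishing and Lefschetz for Hodge cohomology of ample divisors
-/

set_option autoImplicit false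
set_option linter.style.haveILetI false
set_option linter.unusedSectionVars false
set_option maxHeartbeats 1000000
set_option backward.isDefEq.respectTransparency false
set_option backward.isDefEq.respectTransparency.types false

universe u

open CategoryTheory CategoryTheory.Limits AlgebraicGeometry TopologicalSpace Opposite
open CohB1 (tensorMod tensorPow)

noncomputable section

namespace HdgLefLib

open HilbPolyLib (congrLeft congrRight assocIso swapIso unitLeft)

section Inv

variable {X : Scheme.{u}}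

theorem nonempty_pow_inv {A M : X.Modules} (e : tensorMod A M ≅ Coh.structureModule X) : ∀ j : ℕ,
    Nonempty (tensorMod (tensorPow A j) (tensorPow M j) ≅ Coh.structureModule X)
  | 0 => ⟨unitLeft _⟩
  | j + 1 => by
    obtain ⟨e'⟩ := nonempty_pow_inv e j
    exact ⟨assocIso (tensorPow A j) A _ ≪≫ congrRight _ (congrRight A (swapIso (tensorPow M j) M) ≪≫
      (assocIso _ _ _).symm ≪≫ congrLeft e _ ≪≫ unitLeft _) ≪≫ e'⟩

theorem nonempty_inverse_shift {J A S B B' : X.Modules} (h : tensorMod J A ≅ Coh.structureModule X)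
    (h' : tensorMod A S ≅ B) (hB : tensorMod B B' ≅ Coh.structureModule X) : Nonempty (J ≅ tensorMod S B') :=
  ⟨(unitLeft J).symm ≪≫ swapIso _ _ ≪≫ congrRight J (hB.symm ≪≫ congrLeft h'.symm B' ≪≫ assocIso _ _ _) ≪≫
    (assocIso _ _ _).symm ≪≫ congrLeft h _ ≪≫ unitLeft _⟩

end Inv

variable {k : Type u} [Field k] {X : Scheme.{u}} [X.Over (Spec (CommRingCat.of k))]
  [IsProper (X ↘ Spec (CommRingCat.of k))] [Smooth (X ↘ Spec (CommRingCat.of k))]

local notation "f₀" => (X ↘ Spec (CommRingCat.of k))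

theorem hodge_vanishing {n : ℕ} (hn : topologicalKrullDim X = n) (L : X.Modules) (hL : CohB1.IsAmple L) :
    ∃ m₀ : ℕ, ∀ (m : ℕ), m₀ ≤ m →
      ∀ (s : Coh.structureModule X ⟶ tensorPow L m) [Mono s]
        [Smooth ((PicF2.zeroScheme (tensorPow L m) s).subschemeι ≫ f₀)]
        (a b : ℕ) (OmY : (PicF2.zeroScheme (tensorPow L m) s).subscheme.Modules),
        ExtPow.IsExtPow b (Omega.sheaf ((PicF2.zeroScheme (tensorPow L m) s).subschemeι ≫ f₀)) OmY →
        n ≤ a + b →
        Subsingleton (Coh.HH X (tensorMod ((Coh.push (PicF2.zeroScheme (tensorPow L m) s).subschemeι).obj OmY)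
          (tensorPow L m)) a) := by
  haveI : IsLocallyNoetherian X := (CurvLib.isNoetherian k (X := X)).toIsLocallyNoetherian
  have hdim : topologicalKrullDim X ≤ (n : WithBot ℕ∞) := hn.le
  haveI : Coh.IsQCoh (Omega.sheaf f₀) := FinLFAnn.isQCoh_of_isFinLocFree (vbX (k := k) hdim)
  choose E hEv hE using fun c : ℕ => ExtPowLib.exists_isExtPow_vb (vbX (k := k) hdim) c
  choose n₀ hn₀ using fun c : ℕ => (Groth.Agent.S0051.result k X f₀ L hL.1).1 hL (E c)
    (Groth.Agent.PerfLib.isCoh_of_isFinLocFree (hEv c))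
  refine ⟨(Finset.range (n + 1)).sup n₀, fun m hm s _ _ a b G hG hab => ?_⟩
  have hMi : PicF.IsInvertible (tensorPow L m) := AmpleThLib.tensorPow_isInvertible hL.1 m
  have hI : PicF.IsInvertible (ClSub.idealMod (PicF2.zeroScheme (tensorPow L m) s)) :=
    IntMultLib.isInvertible_idealMod (PicF2.zeroScheme (tensorPow L m) s) (AmpleFinGenLib.isEffCartier_zeroScheme hMi s)
  obtain ⟨eL⟩ := AmpleFinGenLib.idealMod_tensor_iso hMi s
  have hS : ∀ (c j a : ℕ) (E' : X.Modules), 1 ≤ a → ExtPow.IsExtPow c (Omega.sheaf f₀) E' →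
      Subsingleton (Coh.HH X (tensorMod E' (tensorPow (tensorPow L m) (j + 1))) a) := fun c j a E' ha hE' => by
    by_cases hc : c ≤ n
    · obtain ⟨e⟩ := ExtPowLib.nonempty_iso hE' (hE c)
      obtain ⟨e'⟩ := DecShLib.nonempty_pow_pow L m (j + 1)
      refine sub_iso (congrRight (E c) e'.symm ≪≫ congrLeft e.symm _) a (hn₀ c _ ?_ a ha)
      calc n₀ c ≤ m := (Finset.le_sup (Finset.mem_range.2 (Nat.lt_succ_of_le hc))).trans hm
        _ ≤ m * (j + 1) := Nat.le_mul_of_pos_right m (Nat.succ_pos j)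
    · exact HodgePnLib.subsingleton_of_isZero (IsZero.of_iso ((CurvLib.tensorLeft' (tensorPow (tensorPow L m) (j + 1))).map_isZero
        (isZero_big (k := k) hdim c (by omega) hE')) (swapIso _ _)) a
  haveI : IsLocallyNoetherian (PicF2.zeroScheme (tensorPow L m) s).subscheme := LocallyOfFiniteType.isLocallyNoetherian (PicF2.zeroScheme (tensorPow L m) s).subschemeι
  have hu := upper (k := k) hdim hI hMi eL hS n b a 0 G hab (Nat.le_add_left n b) hG
  have hGv : FlatMod.IsFinLocFree G := ExtPowLib.isFinLocFree (vbY (k := k) (I := PicF2.zeroScheme (tensorPow L m) s) hdim) hG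
  have hvb : FlatMod.IsFinLocFree (tensorMod G ((Scheme.Modules.pullback (PicF2.zeroScheme (tensorPow L m) s).subschemeι).obj (tensorPow L m))) :=
    finLocFree_tensor hGv (AmpleDevLib.isInvertible_pb _ hMi)
  haveI := FinLFAnn.isQCoh_of_isFinLocFree hvb
  refine sub_iso (((Coh.push (PicF2.zeroScheme (tensorPow L m) s).subschemeι).mapIso (swapIso _ G)).symm ≪≫
    ((ProjFormLib.projIso' (PicF2.zeroScheme (tensorPow L m) s).subschemeι (tensorPow L m) (AmpleDevLib.isFinLocFree_of_isInvertible hMi)).app G).symm ≪≫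
    swapIso _ _) a ((sub_push _ a).2 ?_)
  exact sub_iso (congrRight G ((Scheme.Modules.pullback (PicF2.zeroScheme (tensorPow L m) s).subschemeι).mapIso (unitLeft (tensorPow L m)))) a hu

theorem lefschetz_ample [IrreducibleSpace X] {n : ℕ} (hn : topologicalKrullDim X = n) (L : X.Modules) (hL : CohB1.IsAmple L) :
    ∃ m₀ : ℕ, ∀ (m : ℕ), m₀ ≤ m →
      ∀ (s : Coh.structureModule X ⟶ tensorPow L m) [Mono s]
        [Smooth ((PicF2.zeroScheme (tensorPow L m) s).subschemeι ≫ f₀)]
        (p q : ℕ) (OmX : X.Modules) (OmY : (PicF2.zeroScheme (tensorPow L m) s).subscheme.Modules),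
        ExtPow.IsExtPow p (Omega.sheaf f₀) OmX →
        ExtPow.IsExtPow p (Omega.sheaf ((PicF2.zeroScheme (tensorPow L m) s).subschemeι ≫ f₀)) OmY →
        (p + q + 1 < n → Module.finrank k (Coh.HH X OmX q) =
          Module.finrank k (Coh.HH X ((Coh.push (PicF2.zeroScheme (tensorPow L m) s).subschemeι).obj OmY) q)) ∧
        (p + q + 1 = n → Module.finrank k (Coh.HH X OmX q) ≤
          Module.finrank k (Coh.HH X ((Coh.push (PicF2.zeroScheme (tensorPow L m) s).subschemeι).obj OmY) q)) := by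
  haveI : IsLocallyNoetherian X := (CurvLib.isNoetherian k (X := X)).toIsLocallyNoetherian
  haveI : ConnectedSpace X := { (inferInstance : PreconnectedSpace X) with toNonempty := inferInstance }
  have hdim : topologicalKrullDim X ≤ (n : WithBot ℕ∞) := hn.le
  haveI : Coh.IsQCoh (Omega.sheaf f₀) := FinLFAnn.isQCoh_of_isFinLocFree (vbX (k := k) hdim)
  obtain ⟨N₀, hN₀, r, ι, hι, -, hrel⟩ := DecShLib.exists_embedding (k := k) hL
  haveI := hι
  have hreg : ∀ x : X, IsRegularLocalRing (X.presheaf.stalk x) := fun x => Groth.Agent.S1535.result k X x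
  have hCM : ∀ x : X, IsClosed ({x} : Set ↥X) →
      LocCoh.IsCohenMacaulayLocalRing (X.presheaf.stalk x) ∧ ringKrullDim (X.presheaf.stalk x) = n := fun x hx => by
    haveI := hreg x
    exact ⟨(CMFlatLib.isCohenMacaulayLocalRing_iff_isCM _).mpr (CommAlgDim.isCM_of_isRegularLocalRing _),
      PnDualLib.dim_stalk_closed (k := k) hreg hn x hx⟩
  choose E hEv hE using fun c : ℕ => ExtPowLib.exists_isExtPow_vb (vbX (k := k) hdim) c
  have hLi : ∀ s, PicF.IsInvertible (tensorPow L s) := fun s => AmpleThLib.tensorPow_isInvertible hL.1 s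
  choose q₀ hq₀ using fun cs : ℕ × ℕ => (Groth.Agent.S10934.result k r n ι hn).1 hCM
    (tensorMod (E cs.1) (tensorPow L cs.2)) (finLocFree_tensor (hEv cs.1) (hLi cs.2))
  set Q := (Finset.range (n + 1) ×ˢ Finset.range (N₀ + 1)).sup q₀ with hQ
  refine ⟨N₀ * Q, fun m hm s _ _ p q OmX OmY hX hY => ?_⟩
  have hMi : PicF.IsInvertible (tensorPow L m) := hLi m
  have hI : PicF.IsInvertible (ClSub.idealMod (PicF2.zeroScheme (tensorPow L m) s)) :=
    IntMultLib.isInvertible_idealMod (PicF2.zeroScheme (tensorPow L m) s) (AmpleFinGenLib.isEffCartier_zeroScheme hMi s)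
  obtain ⟨eL⟩ := AmpleFinGenLib.idealMod_tensor_iso hMi s
  have hV : ∀ (c b j : ℕ) (E' : X.Modules), c + b < n → ExtPow.IsExtPow c (Omega.sheaf f₀) E' →
      Subsingleton (Coh.HH X (tensorMod E' (tensorPow (ClSub.idealMod (PicF2.zeroScheme (tensorPow L m) s)) (j + 1))) b) := fun c b j E' hcb hE' => by
    obtain ⟨e⟩ := ExtPowLib.nonempty_iso hE' (hE c)
    obtain ⟨h⟩ := nonempty_pow_inv eL (j + 1)
    obtain ⟨hpp⟩ := DecShLib.nonempty_pow_pow L m (j + 1)
    have hdm := Nat.div_add_mod (m * (j + 1)) N₀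
    have hmod := Nat.mod_lt (m * (j + 1)) hN₀
    have hle : N₀ * Q ≤ m * (j + 1) := hm.trans (Nat.le_mul_of_pos_right m (Nat.succ_pos j))
    set l := m * (j + 1) / N₀ + 1 with hl
    have hmul : N₀ * l = N₀ * (m * (j + 1) / N₀) + N₀ := Nat.mul_succ _ _
    set s' := N₀ * l - m * (j + 1) with hs'
    obtain ⟨h'⟩ := IntMultLib.nonempty_tensorPow_add L (m * (j + 1)) s'
    obtain ⟨hl'⟩ := hrel l
    obtain ⟨h0⟩ := PicPnLib.twist_add r k (l : ℤ) (-(l : ℤ))
    obtain ⟨h00⟩ := PicPnLib.twist_zero r k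
    obtain ⟨sh⟩ := nonempty_inverse_shift (congrRight _ hpp.symm ≪≫ h)
      (h'.symm ≪≫ eqToIso (by rw [show m * (j + 1) + s' = N₀ * l by omega]) ≪≫ hl')
      ((PicPnLib.pullTens ι _ _).symm ≪≫ (Scheme.Modules.pullback ι).mapIso
        (h0 ≪≫ eqToIso (by rw [add_neg_cancel]) ≪≫ h00) ≪≫ KFlatLib.pullUnitIso ι)
    refine sub_iso (assocIso _ _ _ ≪≫ congrRight (E c) sh.symm ≪≫ congrLeft e.symm _) b
      (hq₀ (c, s') l ?_ b (by omega))
    have hmem : (c, s') ∈ Finset.range (n + 1) ×ˢ Finset.range (N₀ + 1) :=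
      Finset.mem_product.2 ⟨Finset.mem_range.2 (by omega), Finset.mem_range.2 (by omega)⟩
    refine (Finset.le_sup hmem).trans ?_
    have := Nat.div_le_div_right (c := N₀) hle
    rw [Nat.mul_div_cancel_left _ hN₀] at this
    omega
  refine ⟨fun h => ((compare (k := k) hdim hI hV p q OmX OmY hX hY (by omega)).1 h).1, fun h => ?_⟩
  exact (compare (k := k) hdim hI hV p q OmX OmY hX hY (by omega)).2

omit [IsProper (X ↘ Spec (CommRingCat.of k))] [Smooth (X ↘ Spec (CommRingCat.of k))] in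
theorem krullDim_le_of_smoothOfRelativeDimension (n : ℕ) [SmoothOfRelativeDimension n f₀] :
    topologicalKrullDim X ≤ (n : WithBot ℕ∞) := by
  haveI : Smooth f₀ := SmoothOfRelativeDimension.smooth n f₀
  rw [FibDimLib.topologicalKrullDim_eq_iSup_localDim]
  exact iSup_le fun x => ((SmoothDimLib.fibreDimAt_eq_localDim f₀ x).symm.trans
    (FibDimLib.fibreDimAt_smoothOfRelativeDimension n f₀ x)).le

omit [IsProper (X ↘ Spec (CommRingCat.of k))] [Smooth (X ↘ Spec (CommRingCat.of k))] in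
theorem lefschetz_of_vanishing (n N : ℕ) [SmoothOfRelativeDimension (n + 1) f₀]
    (ι : X ⟶ CohB1.ProjSpace N k) [IsClosedImmersion ι] (hι : ι ≫ CohB1.ProjSpace.toSpec N k = f₀)
    (L : X.Modules) (d₀ : ℕ)
    (hvan : ∀ d : ℕ, d₀ ≤ d → ∀ M : X.Modules, ClSub.IsInverseOf M (tensorPow L d) →
      ∀ p q : ℕ, p + q ≤ n → ∀ E : X.Modules, ExtPow.IsExtPow p (Omega.sheaf f₀) E →
        Subsingleton (Coh.HH X (tensorMod E M) q))
    (d : ℕ) (hd : d₀ ≤ d) (hL : PicF.IsInvertible L) (M : X.Modules) (hM : ClSub.IsInverseOf M (tensorPow L d))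
    (I : X.IdealSheafData) (hI : Nonempty (ClSub.idealMod I ≅ M))
    [Smooth (I.subschemeι ≫ f₀)]
    (p q : ℕ) (hpq : p + q + 1 ≤ n)
    (F : I.subscheme.Modules) (hF : ExtPow.IsExtPow p (Omega.sheaf (I.subschemeι ≫ f₀)) F)
    (E : X.Modules) (hE : ExtPow.IsExtPow p (Omega.sheaf f₀) E) :
    letI := Module.compHom (Coh.HH I.subscheme F q) (Coh.toGlobal (I.subschemeι ≫ f₀))
    Module.finrank k (Coh.HH I.subscheme F q) = Module.finrank k (Coh.HH X E q) := by
  haveI : IsProper f₀ := by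
    haveI : IsProper (CohB1.ProjSpace.toSpec N k) := StratLib.isProper_toSpec N k
    rw [← hι]; infer_instance
  haveI : Smooth f₀ := SmoothOfRelativeDimension.smooth (n + 1) f₀
  obtain ⟨e⟩ := hI
  obtain ⟨hM⟩ := hM
  have hinv : ∀ j : ℕ, ClSub.IsInverseOf (tensorPow (ClSub.idealMod I) (j + 1)) (tensorPow L (d * (j + 1))) := fun j => by
    obtain ⟨h⟩ := nonempty_pow_inv (congrLeft e _ ≪≫ hM) (j + 1)
    obtain ⟨hpp⟩ := DecShLib.nonempty_pow_pow L d (j + 1)
    exact ⟨congrRight _ hpp.symm ≪≫ h⟩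
  have hIinv : PicF.IsInvertible (ClSub.idealMod I) :=
    IntMultLib.isInvertible_of_inverse (AmpleThLib.tensorPow_isInvertible hL d) (swapIso _ _ ≪≫ congrLeft e _ ≪≫ hM)
  exact ((compare (k := k) (N := n + 1) (krullDim_le_of_smoothOfRelativeDimension (k := k) (n + 1)) hIinv
    (fun c b j E' hcb hE' => hvan (d * (j + 1)) (hd.trans (Nat.le_mul_of_pos_right d (Nat.succ_pos j))) _
      (hinv j) c b (by omega) E' hE') p q E F hE hF (by omega)).1 (by omega)).2.symm

end HdgLefLib
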