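import Groth.Agent.HdgLefLib.Rows

/-!
# Lefschetz for Hodge numbers of sufficiently ample divisors
-/

set_option autoImplicit false
set_option linter.style.haveILetI false
set_option linter.unusedSectionVars false
set_option maxHeartbeats 1000000
set_option backward.isDefEq.respectTransparency false
set_option backward.isDefEq.respectTransparency.types false

universe u

open CategoryTheory CategoryTheory.Limits AlgebraicGeometry TopologicalSpace Opposite
open CohB1 (tensorMod tensorPow)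

noncomputable section

namespace HdgLefLib

open HilbPolyLib (congrLeft congrRight assocIso swapIso unitLeft)

variable {k : Type u} [Field k] {X : Scheme.{u}} [X.Over (Spec (CommRingCat.of k))]
  [IsProper (X ↘ Spec (CommRingCat.of k))] [Smooth (X ↘ Spec (CommRingCat.of k))]

/-- Forms twisted by large negative powers of an ample module have no cohomology in low degrees. -/
theorem exists_bound_vanishing [IrreducibleSpace X] {n : ℕ} (hn : topologicalKrullDim X = n) (L : X.Modules)
    (hL : CohB1.IsAmple L) :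
    ∃ t₀ : ℕ, ∀ t : ℕ, t₀ ≤ t → ∀ J : X.Modules, ClSub.IsInverseOf J (tensorPow L t) →
      ∀ (c b : ℕ) (E : X.Modules), c + b < n → ExtPow.IsExtPow c (Omega.sheaf (X ↘ Spec (CommRingCat.of k))) E →
        Subsingleton (Coh.HH X (tensorMod E J) b) := by
  haveI : IsLocallyNoetherian X := (CurvLib.isNoetherian k (X := X)).toIsLocallyNoetherian
  haveI : ConnectedSpace X := { (inferInstance : PreconnectedSpace X) with toNonempty := inferInstance }
  have hdim : topologicalKrullDim X ≤ (n : WithBot ℕ∞) := hn.le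
  haveI : Coh.IsQCoh (Omega.sheaf (X ↘ Spec (CommRingCat.of k))) :=
    FinLFAnn.isQCoh_of_isFinLocFree (vbX (k := k) hdim)
  obtain ⟨N₀, hN₀, r, ι, hι, -, hrel⟩ := DecShLib.exists_embedding (k := k) hL
  haveI := hι
  have hreg : ∀ x : X, IsRegularLocalRing (X.presheaf.stalk x) := fun x => Groth.Agent.S1535.result k X x
  have hCM : ∀ x : X, IsClosed ({x} : Set ↥X) →
      LocCoh.IsCohenMacaulayLocalRing (X.presheaf.stalk x) ∧ ringKrullDim (X.presheaf.stalk x) = n := fun x hx => by
    haveI := hreg x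
    exact ⟨(CMFlatLib.isCohenMacaulayLocalRing_iff_isCM _).mpr (CommAlgDim.isCM_of_isRegularLocalRing _),
      PnDualLib.dim_stalk_closed (k := k) hreg hn x hx⟩
  choose E hEv hE using fun c : ℕ => ExtPowLib.exists_isExtPow_vb (vbX (k := k) hdim) c
  choose q₀ hq₀ using fun cs : ℕ × ℕ => (Groth.Agent.S10934.result k r n ι hn).1 hCM
    (tensorMod (E cs.1) (tensorPow L cs.2))
    (finLocFree_tensor (hEv cs.1) (AmpleThLib.tensorPow_isInvertible hL.1 cs.2))
  refine ⟨N₀ * (Finset.range (n + 1) ×ˢ Finset.range (N₀ + 1)).sup q₀, fun t ht J hJ c b E' hcb hE' => ?_⟩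
  obtain ⟨hJ⟩ := hJ
  obtain ⟨e⟩ := ExtPowLib.nonempty_iso hE' (hE c)
  have hdm := Nat.div_add_mod t N₀
  have hmod := Nat.mod_lt t hN₀
  set l := t / N₀ + 1 with hl
  have hmul : N₀ * l = N₀ * (t / N₀) + N₀ := Nat.mul_succ _ _
  set s' := N₀ * l - t with hs'
  obtain ⟨h'⟩ := IntMultLib.nonempty_tensorPow_add L t s'
  obtain ⟨hl'⟩ := hrel l
  obtain ⟨h0⟩ := PicPnLib.twist_add r k (l : ℤ) (-(l : ℤ))
  obtain ⟨h00⟩ := PicPnLib.twist_zero r k
  obtain ⟨sh⟩ := nonempty_inverse_shift hJ
    (h'.symm ≪≫ eqToIso (by rw [show t + s' = N₀ * l by omega]) ≪≫ hl')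
    ((PicPnLib.pullTens ι _ _).symm ≪≫ (Scheme.Modules.pullback ι).mapIso
      (h0 ≪≫ eqToIso (by rw [add_neg_cancel]) ≪≫ h00) ≪≫ KFlatLib.pullUnitIso ι)
  refine sub_iso (assocIso _ _ _ ≪≫ congrRight (E c) sh.symm ≪≫ congrLeft e.symm _) b
    (hq₀ (c, s') l ?_ b (by omega))
  have hmem : (c, s') ∈ Finset.range (n + 1) ×ˢ Finset.range (N₀ + 1) :=
    Finset.mem_product.2 ⟨Finset.mem_range.2 (by omega), Finset.mem_range.2 (by omega)⟩
  refine (Finset.le_sup hmem).trans ?_
  have := Nat.div_le_div_right (c := N₀) ht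
  rw [Nat.mul_div_cancel_left _ hN₀] at this
  omega

omit [IsProper (X ↘ Spec (CommRingCat.of k))] [Smooth (X ↘ Spec (CommRingCat.of k))] in
/-- **Lefschetz for sufficiently ample smooth divisors.** -/
theorem lefschetz_eventually [IsIntegral X] (n N : ℕ) [SmoothOfRelativeDimension (n + 1) (X ↘ Spec (CommRingCat.of k))]
    (ι : X ⟶ CohB1.ProjSpace N k) [IsClosedImmersion ι]
    (hι : ι ≫ CohB1.ProjSpace.toSpec N k = X ↘ Spec (CommRingCat.of k)) (L : X.Modules) (hL : CohB1.IsAmple L) :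
    ∃ d₀ : ℕ, ∀ d : ℕ, d₀ ≤ d → ∀ M : X.Modules, ClSub.IsInverseOf M (tensorPow L d) →
      ∀ (I : X.IdealSheafData), Nonempty (ClSub.idealMod I ≅ M) →
        ∀ [Smooth (I.subschemeι ≫ (X ↘ Spec (CommRingCat.of k)))], ∀ p q : ℕ, p + q + 1 ≤ n →
          ∀ F : I.subscheme.Modules, ExtPow.IsExtPow p (Omega.sheaf (I.subschemeι ≫ (X ↘ Spec (CommRingCat.of k)))) F →
          ∀ E : X.Modules, ExtPow.IsExtPow p (Omega.sheaf (X ↘ Spec (CommRingCat.of k))) E →
            letI := Module.compHom (Coh.HH I.subscheme F q) (Coh.toGlobal (I.subschemeι ≫ (X ↘ Spec (CommRingCat.of k))))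
            Module.finrank k (Coh.HH I.subscheme F q) = Module.finrank k (Coh.HH X E q) := by
  haveI : IsProper (X ↘ Spec (CommRingCat.of k)) := by
    haveI : IsProper (CohB1.ProjSpace.toSpec N k) := StratLib.isProper_toSpec N k
    rw [← hι]; infer_instance
  haveI : Smooth (X ↘ Spec (CommRingCat.of k)) := SmoothOfRelativeDimension.smooth (n + 1) _
  have hn : topologicalKrullDim X = ((n + 1 : ℕ) : WithBot ℕ∞) := by
    obtain ⟨x⟩ := (inferInstance : Nonempty X)
    rw [← FibDimLib.localDim_of_irreducible (X ↘ Spec (CommRingCat.of k)) x,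
      ← SmoothDimLib.fibreDimAt_eq_localDim (X ↘ Spec (CommRingCat.of k)) x]
    exact FibDimLib.fibreDimAt_smoothOfRelativeDimension (n + 1) _ x
  obtain ⟨t₀, ht₀⟩ := exists_bound_vanishing (k := k) hn L hL
  refine ⟨t₀, fun d hd M hM I hI _ p q hpq F hF E hE => ?_⟩
  exact lefschetz_of_vanishing n N ι hι L t₀
    (fun d' hd' M' hM' c b hcb E' hE' => ht₀ d' hd' M' hM' c b E' (by omega) hE')
    d hd hL.1 M hM I hI p q hpq F hF E hE

end HdgLefLib
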