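import Groth.Agent.AdjFormLib.Main
import Groth.Agent.FinLFAnnLib.Main

/-!
# Adapted frames for a smooth closed subscheme, without a global relative dimension
-/

set_option autoImplicit false
set_option linter.style.haveILetI false
set_option linter.unusedSectionVars false
set_option maxHeartbeats 1000000
set_option backward.isDefEq.respectTransparency false
set_option backward.isDefEq.respectTransparency.types false

universe u

open CategoryTheory CategoryTheory.Limits AlgebraicGeometry TopologicalSpace Opposite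
open AmpleLib (res res_res res_smul)
open DetDegLib (FrameAt)
open DevissLib (gm St)
open OmegaSh (pullSect)
open scoped TensorProduct

noncomputable section

namespace HdgLefLib

open AdjFormLib

section Datum

variable {S X Y : Scheme.{u}} {f : X ⟶ S} [Smooth f] [QuasiSeparated f] {i : Y ⟶ X}
  [IsClosedImmersion i] [Smooth (i ≫ f)] {Ω : X.Modules} {d : OmegaSh.Der f Ω} (hd : OmegaSh.IsUniversal d)
  (hΩ : FlatMod.IsFinLocFree Ω) {φ : Omega.conormal i ⟶ (Scheme.Modules.pullback i).obj Ω}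
  (hφ : OmegaSh.IsConormalDiff i d φ)

include hd hΩ hφ in
/-- Adapted frames near a point of a smooth closed subscheme. -/
theorem exists_datum' (y : Y) {c : ℕ} {U₀ : X.affineOpens} {g₀ : Fin c → Γ(X, U₀.1)} (hy₀ : i y ∈ U₀.1)
    (h₀ : FLI.IsChart i U₀ g₀) :
    ∃ (n m : ℕ) (σ : Fin c ⊕ Fin m ≃ Fin n) (D : Datum i σ φ), i y ∈ D.U.1 := by
  haveI : Coh.IsQCoh Ω := FinLFAnn.isQCoh_of_isFinLocFree hΩ
  obtain ⟨U₁, n, w₀, hy₁, hw₀'⟩ := ProjFormLib.exists_frame (E := Ω) hΩ (i y)
  have hq : ∀ (x : X) (hx : x ∈ U₁), FrameAt Ω w₀ hx := fun x hx => by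
    refine (congrArg Function.Bijective (funext fun v => ?_)).mp (hw₀' x hx)
    exact Fintype.linearCombination_apply _ _ v
  obtain ⟨V, hV, hyV, -⟩ := exists_isAffineOpen_mem_and_subset (x := f (i y)) (U := ⊤) trivial
  obtain ⟨U, hle, hy, hUO, hc⟩ := h₀.exists_le hy₀ (O := U₁ ⊓ f ⁻¹ᵁ V) ⟨hy₁, hyV⟩
  have hU : IsAffineOpen U.1 := U.2
  have hUV : U.1 ≤ f ⁻¹ᵁ V := hUO.trans inf_le_right
  have hU₁' : U.1 ≤ U₁ := hUO.trans inf_le_left
  let g : Fin c → Γ(X, U.1) := FLI.resFam hle g₀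
  let w : Fin n → Γ(Ω, U.1) := fun k => Ω.presheaf.map (homOfLE hU₁').op (w₀ k)
  have hw : ∀ (x : X) (hx : x ∈ U.1), FrameAt Ω w hx := fun x hx =>
    (DetDegLib.frameAt_res hU₁' w₀ hx).2 (hq x (hUO hx).1)
  choose J hJ using fun j => (DetDegLib.frame_bijective hU w hw).2 (d.app U.1 (g j))
  let B := Γ(X, U.1)
  let C := Γ(Y, i ⁻¹ᵁ U.1)
  let p : Ideal B := (hU.primeIdealOf ⟨i y, hy⟩).asIdeal
  letI : Algebra Γ(S, V) B := (f.appLE V U.1 hUV).hom.toAlgebra
  letI : Algebra B C := (i.app U.1).hom.toAlgebra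
  have hC : i ⁻¹ᵁ U.1 ≤ (i ≫ f) ⁻¹ᵁ V := i.preimage_mono hUV
  letI : Algebra Γ(S, V) C := ((i ≫ f).appLE V (i ⁻¹ᵁ U.1) hC).hom.toAlgebra
  haveI : IsScalarTower Γ(S, V) B C := IsScalarTower.of_algebraMap_eq fun a => by
    refine (congr($((Scheme.Hom.appLE_comp_appLE i f V U.1 (i ⁻¹ᵁ U.1) hUV le_rfl).symm) a)).trans ?_
    rw [ConcreteCategory.comp_apply, ← Scheme.Hom.app_eq_appLE]
    rfl
  haveI : Algebra.Smooth Γ(S, V) B := f.smooth_appLE hV hU hUV
  haveI : Algebra.Smooth Γ(S, V) C := (i ≫ f).smooth_appLE hV (hU.preimage i) hC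
  have hker : RingHom.ker (algebraMap B C) = Ideal.span (Set.range g) := by
    rw [← hc.ideal_eq, Scheme.Hom.ker_apply]
    rfl
  obtain ⟨e, he⟩ := OmegaAffLib.exists_equiv hd hV hU hUV
  have hsurj : Function.Surjective (algebraMap B C) := i.app_surjective U.1 hU
  have hkp : RingHom.ker (algebraMap B C) ≤ p :=
    (RegImmKindLib.ker_stalkMap i hU (hU.preimage i) hsurj y hy).2
  have hind : ∀ a : Fin c → B, (∀ k, ∑ j, a j * J j k ∈ p) → ∀ j, a j ∈ p := by
    intro a ha
    refine mem_of_sum_D_mem (A := Γ(S, V)) (B := B) (C := C) hsurj g hc.wreg hker p hkp a ?_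
    have h1 : e (∑ j, a j • KaehlerDifferential.D Γ(S, V) B (g j)) ∈ p • (⊤ : Submodule B Γ(Ω, U.1)) := by
      rw [map_sum, Finset.sum_congr rfl fun j _ => (map_smul e (a j) _).trans
        (congrArg (a j • ·) ((he (g j)).trans (hJ j).symm))]
      simp only [Finset.smul_sum, smul_smul]
      rw [Finset.sum_comm]
      refine sum_mem fun k _ => ?_
      rw [← Finset.sum_smul]
      exact Submodule.smul_mem_smul (ha k) trivial
    rw [show p • (⊤ : Submodule B Γ(Ω, U.1)) = (p • (⊤ : Submodule B Ω[B⁄Γ(S, V)])).map e.toLinearMap by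
      rw [Submodule.map_smul'', Submodule.map_top, LinearMap.range_eq_top.2 e.surjective]] at h1
    obtain ⟨x, hx, hxe⟩ := h1
    rwa [e.injective hxe] at hx
  let K := p.ResidueField
  obtain ⟨m, k, σ, hσ⟩ := exists_completion K _ (linearIndependent_residue p J hind)
  let T : Matrix (Fin n) (Fin n) B := Matrix.of fun a b =>
    Sum.elim (fun j => J j a) (fun t => (Pi.single (k t) (1 : B) : Fin n → B) a) (σ.symm b)
  let b' : Fin n → Γ(Ω, U.1) := fun b => ∑ a, T a b • w a
  have hdet : T.det ∉ p := fun hd0 => by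
    have hu : IsUnit (T.map (algebraMap B K)) := by
      rw [← Matrix.linearIndependent_cols_iff_isUnit]
      convert hσ using 1
      funext b a
      rcases hb : σ.symm b with j | t
      · simp [T, hb, K]
      · simp [T, hb, K, Pi.single_apply]
    have hu' := (Matrix.isUnit_iff_isUnit_det _).1 hu
    rw [show (T.map (algebraMap B K)).det = algebraMap B K T.det from ((algebraMap B K).map_det T).symm,
      Ideal.algebraMap_residueField_eq_zero.2 hd0] at hu'
    exact not_isUnit_zero hu'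
  obtain ⟨W, hWU, hyW, hWD, hcW⟩ := hc.exists_le hy (O := X.basicOpen T.det) (by
    rw [show i y = hU.fromSpec (hU.primeIdealOf ⟨i y, hy⟩) from (hU.fromSpec_primeIdealOf ⟨i y, hy⟩).symm]
    show hU.primeIdealOf ⟨i y, hy⟩ ∈ hU.fromSpec ⁻¹ᵁ X.basicOpen T.det
    rw [hU.fromSpec_preimage_basicOpen]
    exact hdet)
  refine ⟨n, m, σ, ⟨W, hcW.eU, fun a => Ω.presheaf.map (homOfLE hWU).op (b' a), fun z hz => hcW.frame z hz,
    fun x hx => ?_, fun j => ?_⟩, hyW⟩
  · rw [DetDegLib.frameAt_res]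
    refine DetDegLib.frameAt_of_matrix w b' (hWU hx) (T.map (X.presheaf.germ U.1 x (hWU hx)).hom)
      (fun b => DetDegLib.gm_combo Ω w (hWU hx) fun a => T a b) (hw x (hWU hx)) ?_
    rw [show (T.map (X.presheaf.germ U.1 x (hWU hx)).hom).det = (X.presheaf.germ U.1 x (hWU hx)).hom T.det from
      ((X.presheaf.germ U.1 x (hWU hx)).hom.map_det T).symm]
    exact (Scheme.mem_basicOpen X T.det x (hWU hx)).1 (hWD hx)
  · refine (hφ W.1 (hcW.lifts j)).trans (congrArg (OmegaSh.pullSect i Ω W.1) ?_)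
    rw [hcW.idealSect_lifts]
    refine (OmegaAffLib.der_rs d hWU (g j)).trans (congrArg (Ω.presheaf.map (homOfLE hWU).op) ?_)
    rw [← hJ j]
    exact Finset.sum_congr rfl fun a _ => by simp [T]

end Datum

end HdgLefLib
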